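import Cfsg.Agent.L0.R1.Four

set_option autoImplicit false
set_option maxHeartbeats 1000000

namespace Cfsg.Agent.L0.R1
open Cfsg

section Setup
variable {G Ω : Type*} [Group G] [Finite G] [MulAction G Ω] {a : Ω} {t : G} {Q : Subgroup G}
variable (hS : Cfsg.IsRankOneSetup G Ω a t Q)
include hS

/-- a non-identity element of `K` -/
theorem exists_K (h2 : ∃ x y : G, x ≠ 1 ∧ y ≠ 1 ∧ x ≠ y ∧ x * x = 1 ∧ y * y = 1 ∧ x * y = y * x) :
    ∃ k ∈ Cfsg.invertedBy (DD G a t) t, k ≠ 1 := by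
  obtain ⟨x, y, hx, hy, hxy, hxx, hyy, hc⟩ := h2
  obtain ⟨c, hxc, -⟩ := inv_fix hS hx hxx
  have hyc : y • c = c := fix_of_comm hS hx hxx hxc hc.symm
  obtain ⟨g, hg⟩ : ∃ g : G, g • c = a := by
    by_cases h : c = a
    · exact ⟨1, by rw [one_smul, h]⟩
    · obtain ⟨g, hg, -⟩ := exists_map hS h (tne hS).symm
      exact ⟨g, hg⟩
  have conj1 : ∀ u : G, u ≠ 1 → u * u = 1 → u • c = c → g * u * g⁻¹ ∈ Cfsg.involutionsIn (MulAction.stabilizer G a : Set G) := by
    intro u hu huu huc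
    refine ⟨?_, ?_, ?_⟩
    · change (g * u * g⁻¹) • a = a
      rw [mul_smul, mul_smul, ← hg, inv_smul_smul, huc]
    · intro h1; apply hu
      calc u = g⁻¹ * (g * u * g⁻¹) * g := by group
        _ = 1 := by rw [h1]; group
    · calc g * u * g⁻¹ * (g * u * g⁻¹) = g * (u * u) * g⁻¹ := by group
        _ = 1 := by rw [huu]; group
  obtain ⟨k, hk, hk'⟩ := (s1122 hS).2 _ (conj1 x hx hxx hxc) _ (conj1 y hy hyy hyc)
  refine ⟨k, hk, ?_⟩
  rintro rfl
  rw [inv_one, one_mul, mul_one] at hk'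
  exact hxy (mul_left_cancel (mul_right_cancel hk'))

theorem s1129 (h2 : ∃ x y : G, x ≠ 1 ∧ y ≠ 1 ∧ x ≠ y ∧ x * x = 1 ∧ y * y = 1 ∧ x * y = y * x) : Group.IsNilpotent Q := by
  obtain ⟨k, hk, hk1⟩ := exists_K hS h2
  obtain ⟨hkD, hkt⟩ := (mem_K hS).mp hk
  -- prime order power
  have ho : orderOf k ≠ 1 := by rwa [Ne, orderOf_eq_one_iff]
  obtain ⟨p, hp, hpd⟩ := Nat.exists_prime_and_dvd ho
  haveI : Fact p.Prime := ⟨hp⟩
  obtain ⟨n, hn⟩ := hpd
  have hn0 : 0 < n := by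
    rcases Nat.eq_zero_or_pos n with h | h
    · rw [h, mul_zero] at hn; have := orderOf_pos k; omega
    · exact h
  set y := k ^ n with hy
  have hyp : y ^ p = 1 := by rw [hy, ← pow_mul, mul_comm, ← hn, pow_orderOf_eq_one]
  have hy1 : y ≠ 1 := by
    intro h
    have h1 := orderOf_dvd_of_pow_eq_one h
    rw [hn] at h1
    have h3 := Nat.le_of_dvd hn0 h1
    have h4 := hp.two_le
    nlinarith
  have hyD : y ∈ DD G a t := (DD G a t).pow_mem hkD n
  have hyK : y ∈ Cfsg.invertedBy (DD G a t) t := (mem_K hS).mpr ⟨hyD, conj_pow_inv hS.mul_self hkt n⟩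
  have hfp := s1128 hS hyK hy1
  have hnorm : y ∈ Subgroup.normalizer (Q : Set G) := by
    rw [(s1118 hS).2.1]; exact hyD.1
  let α : MulAut Q := Q.normalizerMonoidHom ⟨y, hnorm⟩
  have hα : ∀ x : Q, ((α x : Q) : G) = y * x * y⁻¹ := fun x => rfl
  refine Cfsg.Agent.H3.nilpotent_of_fpf α p ?_ ?_
  · have h1 : (⟨y, hnorm⟩ : ↥(Subgroup.normalizer (Q : Set G))) ^ p = 1 := Subtype.ext hyp
    change (Q.normalizerMonoidHom ⟨y, hnorm⟩) ^ p = 1
    rw [← map_pow, h1, map_one]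
  · intro x hx
    have h1 : y * (x : G) * y⁻¹ = x := by rw [← hα, hx]
    have h3 : (x : G) ∈ Q ⊓ Subgroup.centralizer {y} := by
      refine Subgroup.mem_inf.mpr ⟨x.2, Subgroup.mem_centralizer_singleton_iff.mpr ?_⟩
      exact (mul_inv_eq_iff_eq_mul.mp h1).symm
    rw [hfp, Subgroup.mem_bot] at h3
    exact Subtype.ext h3

theorem s1130 (h2 : ∃ x y : G, x ≠ 1 ∧ y ≠ 1 ∧ x ≠ y ∧ x * x = 1 ∧ y * y = 1 ∧ x * y = y * x) :
    (∀ s ∈ Cfsg.involutionsIn (MulAction.stabilizer G a : Set G), s ∈ Q ∧ ∀ x ∈ Q, s * x = x * s) ∧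
      ∀ s ∈ Cfsg.involutionsIn (MulAction.stabilizer G a : Set G), ∀ s' ∈ Cfsg.involutionsIn (MulAction.stabilizer G a : Set G),
        s * s' = 1 ∨ s * s' ∈ Cfsg.involutionsIn (MulAction.stabilizer G a : Set G) := by
  have hnil := s1129 hS h2
  -- a central involution of `Q`
  obtain ⟨z, hzQ, hz1, hzz, hzc⟩ : ∃ z ∈ Q, z ≠ 1 ∧ z * z = 1 ∧ ∀ x ∈ Q, z * x = x * z := by
    obtain ⟨S⟩ : Nonempty (Sylow 2 Q) := inferInstance
    haveI hSn : (S : Subgroup Q).Normal := by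
      have h := (Group.isNilpotent_of_finite_tfae (G := Q)).out 0 3
      exact h.mp hnil 2 inferInstance S
    have hdvd : 2 ∣ Nat.card S := S.dvd_card_of_dvd_card hS.even_card.two_dvd
    haveI : Nontrivial S := by
      rw [← Finite.one_lt_card_iff_nontrivial]
      exact lt_of_lt_of_le one_lt_two (Nat.le_of_dvd Nat.card_pos hdvd)
    have hS1 : (S : Subgroup Q) ≠ ⊥ := (Subgroup.nontrivial_iff_ne_bot _).mp this
    -- S meets the centre
    have hcen : (S : Subgroup Q) ⊓ Subgroup.center Q ≠ ⊥ := by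
      haveI := hnil
      exact Cfsg.Agent.H1.inf_center_ne_bot (S : Subgroup Q) hS1
    haveI : Nontrivial ↥((S : Subgroup Q) ⊓ Subgroup.center Q) := (Subgroup.nontrivial_iff_ne_bot _).mpr hcen
    have hp2 : IsPGroup 2 ↥((S : Subgroup Q) ⊓ Subgroup.center Q) := S.isPGroup'.to_le inf_le_left
    have hd2 : 2 ∣ Nat.card ↥((S : Subgroup Q) ⊓ Subgroup.center Q) := by
      obtain ⟨n, hn⟩ := IsPGroup.iff_card.mp hp2
      have h3 : n ≠ 0 := by
        rintro rfl
        rw [pow_zero] at hn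
        have := Finite.one_lt_card (α := ↥((S : Subgroup Q) ⊓ Subgroup.center Q))
        omega
      rw [hn]; exact dvd_pow_self 2 h3
    obtain ⟨z, hz⟩ := exists_prime_orderOf_dvd_card' 2 hd2
    have hzz : z * z = 1 := by
      have h := pow_orderOf_eq_one z
      rwa [hz, pow_two] at h
    refine ⟨((z : Q) : G), (z : Q).2, ?_, ?_, ?_⟩
    · intro h
      have h1 : z = 1 := Subtype.ext (Subtype.ext h)
      rw [h1, orderOf_one] at hz
      norm_num at hz
    · exact congrArg (fun w : ↥((S : Subgroup Q) ⊓ Subgroup.center Q) => ((w : Q) : G)) hzz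
    · intro x hx
      exact (congrArg Subtype.val (Subgroup.mem_center_iff.mp z.2.2 ⟨x, hx⟩)).symm
  have h1 : ∀ s ∈ Cfsg.involutionsIn (MulAction.stabilizer G a : Set G), s ∈ Q ∧ ∀ x ∈ Q, s * x = x * s := by
    intro s hs
    refine ⟨inv_mem_Q hS hs.1 hs.2.2, ?_⟩
    obtain ⟨k, hk, hk'⟩ := (s1122 hS).2 z ⟨hS.le hzQ, hz1, hzz⟩ s hs
    obtain ⟨hkD, -⟩ := (mem_K hS).mp hk
    intro x hx
    have h3 := hzc _ (hS.conj_mem k hkD.1 x hx)
    calc s * x = k⁻¹ * (z * (k * x * k⁻¹)) * k := by rw [← hk']; group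
      _ = k⁻¹ * ((k * x * k⁻¹) * z) * k := by rw [h3]
      _ = x * s := by rw [← hk']; group
  refine ⟨h1, fun s hs s' hs' => ?_⟩
  by_cases h : s * s' = 1
  · exact Or.inl h
  · right
    refine ⟨(MulAction.stabilizer G a).mul_mem hs.1 hs'.1, h, ?_⟩
    have h3 := (h1 s hs).2 s' (h1 s' hs').1
    calc s * s' * (s * s') = s * (s' * s) * s' := by group
      _ = (s * s) * (s' * s') := by rw [← h3]; group
      _ = 1 := by rw [hs.2.2, hs'.2.2, one_mul]

theorem s1135 (h2 : ∃ x y : G, x ≠ 1 ∧ y ≠ 1 ∧ x ≠ y ∧ x * x = 1 ∧ y * y = 1 ∧ x * y = y * x)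
    (u v : G) (hu1 : u ≠ 1) (hu2 : u * u = 1) (hv1 : v ≠ 1) (hv2 : v * v = 1) (hx : (u * v) * (u * v) ≠ 1) :
    (∃ g : G, ∃ u' ∈ Cfsg.involutionsIn (MulAction.stabilizer G a : Set G), g * (u * v) * g⁻¹ = u' * t) ∧
      Odd (Nat.card ↥(Subgroup.centralizer {u * v})) := by
  have hS30 := s1130 hS h2
  obtain ⟨c, huc, -⟩ := inv_fix hS hu1 hu2
  obtain ⟨g, hg⟩ : ∃ g : G, g • c = a := by
    by_cases h : c = a
    · exact ⟨1, by rw [one_smul, h]⟩
    · obtain ⟨g, hg, -⟩ := exists_map hS h (tne hS).symm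
      exact ⟨g, hg⟩
  have conj1 : ∀ w : G, w ≠ 1 → w * w = 1 → ∀ g : G, g * w * g⁻¹ ≠ 1 ∧ g * w * g⁻¹ * (g * w * g⁻¹) = 1 := by
    intro w hw hww g
    refine ⟨?_, ?_⟩
    · intro h1; apply hw
      calc w = g⁻¹ * (g * w * g⁻¹) * g := by group
        _ = 1 := by rw [h1]; group
    · calc g * w * g⁻¹ * (g * w * g⁻¹) = g * (w * w) * g⁻¹ := by group
        _ = 1 := by rw [hww]; group
  have hvc : v • c ≠ c := by
    intro hvc
    apply hx
    have m1 : g * u * g⁻¹ ∈ Cfsg.involutionsIn (MulAction.stabilizer G a : Set G) := by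
      refine ⟨?_, conj1 u hu1 hu2 g⟩
      change (g * u * g⁻¹) • a = a
      rw [mul_smul, mul_smul, ← hg, inv_smul_smul, huc]
    have m2 : g * v * g⁻¹ ∈ Cfsg.involutionsIn (MulAction.stabilizer G a : Set G) := by
      refine ⟨?_, conj1 v hv1 hv2 g⟩
      change (g * v * g⁻¹) • a = a
      rw [mul_smul, mul_smul, ← hg, inv_smul_smul, hvc]
    have h3 := (hS30.1 _ m1).2 _ (hS30.1 _ m2).1
    have h4 : u * v = v * u := by
      calc u * v = g⁻¹ * ((g * u * g⁻¹) * (g * v * g⁻¹)) * g := by group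
        _ = g⁻¹ * ((g * v * g⁻¹) * (g * u * g⁻¹)) * g := by rw [h3]
        _ = v * u := by group
    calc u * v * (u * v) = u * (v * u) * v := by group
      _ = (u * u) * (v * v) := by rw [← h4]; group
      _ = 1 := by rw [hu2, hv2, one_mul]
  constructor
  · obtain ⟨g, hgc, hgv⟩ := exists_map hS (Ne.symm hvc) (tne hS).symm
    -- `g v g⁻¹` maps `a` to `t a`
    have hva : (g * v * g⁻¹) • a = t • a := by
      rw [mul_smul, mul_smul, ← hgc, inv_smul_smul, hgv, hgc]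
    obtain ⟨m, hm, hmt, he⟩ := T_lemma hS (conj1 v hv1 hv2 g).2 hva
    refine ⟨m * g, m * (g * u * g⁻¹) * m⁻¹, ⟨?_, ?_⟩, ?_⟩
    · change (m * (g * u * g⁻¹) * m⁻¹) • a = a
      rw [mul_smul, mul_smul, mul_smul, mul_smul, show m⁻¹ • a = a from ((DD G a t).inv_mem hm).1, ← hgc, inv_smul_smul, huc, hgc,
        show m • a = a from hm.1]
    · have h3 := conj1 _ (conj1 u hu1 hu2 g).1 (conj1 u hu1 hu2 g).2 m
      exact h3
    · calc m * g * (u * v) * (m * g)⁻¹ = m * (g * u * g⁻¹) * m⁻¹ * (m * (g * v * g⁻¹) * m⁻¹) := by group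
        _ = m * (g * u * g⁻¹) * m⁻¹ * t := by rw [he]; group
  · -- centralizer has odd order
    by_contra hcon
    rw [Nat.not_odd_iff_even] at hcon
    set x := u * v with hxdef
    set C := Subgroup.centralizer ({x} : Set G) with hC
    -- `u` normalizes `C`
    have hux : u * x * u⁻¹ = x⁻¹ := by
      rw [inv_eq_of_mul_eq_one_left hu2]; exact dih_aux hu2 hv2
    have huN : u ∈ Subgroup.normalizer (C : Set G) := by
      apply Subgroup.mem_normalizer_fintype
      intro w hw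
      have hw' : w * x = x * w := Subgroup.mem_centralizer_singleton_iff.mp hw
      apply Subgroup.mem_centralizer_singleton_iff.mpr
      have h3 : x = u * x⁻¹ * u⁻¹ := by
        have : u * x⁻¹ * u⁻¹ = (u * x * u⁻¹)⁻¹ := by group
        rw [this, hux, inv_inv]
      have h4 : w * x⁻¹ = x⁻¹ * w := by
        have c1 : Commute w x := hw'
        exact c1.inv_right.eq
      calc u * w * u⁻¹ * x = u * w * u⁻¹ * (u * x⁻¹ * u⁻¹) := by rw [← h3]
        _ = u * (w * x⁻¹) * u⁻¹ := by group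
        _ = u * (x⁻¹ * w) * u⁻¹ := by rw [h4]
        _ = (u * x⁻¹ * u⁻¹) * (u * w * u⁻¹) := by group
        _ = x * (u * w * u⁻¹) := by rw [← h3]
    have huC : ∀ w ∈ C, u * w * u⁻¹ ∈ C := fun w hw => (Subgroup.mem_set_normalizer_iff.mp huN w).mp hw
    classical
    haveI := Fintype.ofFinite C
    let f : Function.End C := fun w => ⟨u * w * u⁻¹, huC w w.2⟩
    have hf : f ^ 2 ^ 1 = 1 := by
      rw [pow_one, pow_two]
      funext w
      apply Subtype.ext
      change u * (u * (w : G) * u⁻¹) * u⁻¹ = w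
      calc u * (u * (w : G) * u⁻¹) * u⁻¹ = (u * u) * w * (u * u)⁻¹ := by group
        _ = w := by rw [hu2]; group
    have h3 := Equiv.Perm.card_fixedPoints_modEq (p := 2) (n := 1) hf
    have h4 : 2 ∣ Nat.card (Function.fixedPoints f) := by
      rw [Nat.card_eq_fintype_card]
      rw [Nat.card_eq_fintype_card] at hcon
      have h5 := hcon.two_dvd
      unfold Nat.ModEq at h3
      omega
    have h5 : Nat.card (Function.fixedPoints f) = Nat.card ↥(C ⊓ Subgroup.centralizer ({u} : Set G)) := by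
      refine Nat.card_congr ⟨fun w => ⟨(w : C), Subgroup.mem_inf.mpr ⟨(w : C).2, Subgroup.mem_centralizer_singleton_iff.mpr ?_⟩⟩,
        fun w => ⟨⟨w, (Subgroup.mem_inf.mp w.2).1⟩, ?_⟩, fun w => rfl, fun w => rfl⟩
      · have h6 : u * ((w : C) : G) * u⁻¹ = (w : C) := congrArg Subtype.val w.2
        exact (mul_inv_eq_iff_eq_mul.mp h6).symm
      · apply Subtype.ext
        change u * (w : G) * u⁻¹ = w
        have h6 : (w : G) * u = u * w := Subgroup.mem_centralizer_singleton_iff.mp (Subgroup.mem_inf.mp w.2).2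
        rw [← h6, mul_inv_cancel_right]
    rw [h5] at h4
    obtain ⟨w, hw⟩ := exists_prime_orderOf_dvd_card' 2 h4
    have hww : w * w = 1 := by
      have h := pow_orderOf_eq_one w
      rwa [hw, pow_two] at h
    have hw1 : (w : G) ≠ 1 := by
      intro h
      have h1 : w = 1 := Subtype.ext h
      rw [h1, orderOf_one] at hw
      norm_num at hw
    have hww' : (w : G) * w = 1 := congrArg Subtype.val hww
    obtain ⟨hwC, hwu⟩ := Subgroup.mem_inf.mp w.2
    have hwx : (w : G) * x = x * w := Subgroup.mem_centralizer_singleton_iff.mp hwC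
    have hwu' : (w : G) * u = u * w := Subgroup.mem_centralizer_singleton_iff.mp hwu
    have hwc : (w : G) • c = c := fix_of_comm hS hu1 hu2 huc hwu'
    have hvw : v * w = w * v := by
      have h7 : v = u * x := by rw [hxdef, ← mul_assoc, hu2, one_mul]
      have c1 : Commute (w : G) u := hwu'
      have c2 : Commute (w : G) x := hwx
      rw [h7]
      exact (c1.mul_right c2).eq.symm
    exact hvc (fix_of_comm hS hw1 hww' hwc hvw)

end Setup

end Cfsg.Agent.L0.R1
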