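import Cfsg.Agent.L0.R1.Three

set_option autoImplicit false
set_option maxHeartbeats 1000000

namespace Cfsg.Agent.L0.R1
open Cfsg

section Setup
variable {G Ω : Type*} [Group G] [Finite G] [MulAction G Ω] {a : Ω} {t : G} {Q : Subgroup G}
variable (hS : Cfsg.IsRankOneSetup G Ω a t Q)
include hS

theorem s1121 :
    (∀ s u : G, s ∈ MulAction.stabilizer G a → s ≠ 1 → s * s = 1 → u ∉ MulAction.stabilizer G a → u ≠ 1 → u * u = 1 → Odd (orderOf (s * u))) ∧
      ∀ u v : G, u ≠ 1 → u * u = 1 → v ≠ 1 → v * v = 1 → ∃ g : G, g * u * g⁻¹ = v :=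
  ⟨fun _ _ hs hs1 hss hu hu1 huu => odd_of_ne hS hs1 hss hu1 huu hs hu, fun _ _ hu huu hv hvv => conj_inv hS hu huu hv hvv⟩

theorem s1123 :
    ∃! p : G × G, p.1 ∈ Cfsg.involutionsIn (MulAction.stabilizer G a : Set G) ∧ p.2 ∈ Q ∧
      t * p.1 * t = p.2⁻¹ * t * p.2 := by
  obtain ⟨s, hs, hs1, hss, r, hr, h⟩ := exists_special hS
  refine ⟨(s, r), ⟨⟨hS.le hs, hs1, hss⟩, hr, h⟩, ?_⟩
  rintro ⟨s', r'⟩ ⟨⟨h1, h2, h3⟩, h4, h5⟩
  obtain ⟨e1, e2⟩ := special_unique hS (inv_mem_Q hS h1 h3) h2 h3 h4 h5 hs hs1 hss hr h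
  exact Prod.ext e1 e2

/-- swap lemma inside the set of involutions interchanging `a` and `t a` -/
theorem T_swap {u v : G} (huu : u * u = 1) (hvv : v * v = 1) (hu : u • a = t • a) (hv : v • a = t • a) :
    ∃ w : G, w * w = 1 ∧ w • a = t • a ∧ w * u * w = v := by
  have hub : u • (t • a) = a := by rw [← hu, ← mul_smul, huu, one_smul]
  have hvb : v • (t • a) = a := by rw [← hv, ← mul_smul, hvv, one_smul]
  have hD : u * v ∈ DD G a t := by
    refine Subgroup.mem_inf.mpr ⟨?_, ?_⟩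
    · rw [MulAction.mem_stabilizer_iff, mul_smul, hv, hub]
    · rw [MulAction.mem_stabilizer_iff, mul_smul, hvb, hu]
  have hodd : Odd (orderOf (u * v)) := by
    have h1 := orderOf_dvd_natCard (⟨u * v, hD⟩ : DD G a t)
    rw [Subgroup.orderOf_mk] at h1
    exact Odd.of_dvd_nat hS.odd_card h1
  obtain ⟨m, h1, h2⟩ := dih_swap huu hvv hodd
  refine ⟨(u * v) ^ m * u, h1, ?_, h2⟩
  rw [mul_smul, hu]
  exact ((DD G a t).pow_mem hD m).2

theorem s1122 :
    Nat.card (Cfsg.invertedBy (DD G a t) t) = Nat.card (Cfsg.involutionsIn (MulAction.stabilizer G a : Set G)) ∧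
      ∀ s ∈ Cfsg.involutionsIn (MulAction.stabilizer G a : Set G), ∀ s' ∈ Cfsg.involutionsIn (MulAction.stabilizer G a : Set G),
        ∃ k ∈ Cfsg.invertedBy (DD G a t) t, k⁻¹ * s * k = s' := by
  obtain ⟨s₀, hs₀, hs1, hss, r, hr, h⟩ := exists_special hS
  have htt := hS.mul_self
  constructor
  · refine Nat.card_congr (Equiv.ofBijective (fun k : Cfsg.invertedBy (DD G a t) t =>
      (⟨(k : G) * s₀ * (k : G)⁻¹, ?_⟩ : Cfsg.involutionsIn (MulAction.stabilizer G a : Set G))) ?_)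
    · have hk := ((mem_K hS).mp k.2).1
      refine ⟨hS.le (hS.conj_mem k hk.1 s₀ hs₀), ?_, ?_⟩
      · intro h1; apply hs1
        calc s₀ = (k : G)⁻¹ * (k * s₀ * (k : G)⁻¹) * k := by group
          _ = 1 := by rw [h1]; group
      · calc (k : G) * s₀ * (k : G)⁻¹ * (k * s₀ * (k : G)⁻¹) = k * (s₀ * s₀) * (k : G)⁻¹ := by group
          _ = 1 := by rw [hss]; group
    · constructor
      · rintro ⟨k, hk⟩ ⟨l, hl⟩ he
        have he' : k * s₀ * k⁻¹ = l * s₀ * l⁻¹ := congrArg Subtype.val he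
        obtain ⟨hkD, hkt⟩ := (mem_K hS).mp hk
        obtain ⟨hlD, hlt⟩ := (mem_K hS).mp hl
        have hd : l⁻¹ * k ∈ DD G a t := (DD G a t).mul_mem ((DD G a t).inv_mem hlD) hkD
        have h1 : (l⁻¹ * k) * s₀ = s₀ * (l⁻¹ * k) := by
          calc (l⁻¹ * k) * s₀ = l⁻¹ * (k * s₀ * k⁻¹) * k := by group
            _ = s₀ * (l⁻¹ * k) := by rw [he']; group
        have h2 := CV_le hS hs₀ hs1 hss hr h hd h1
        have h3 := K_comm hS hkt
        have h4 := K_comm' hS hlt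
        have h5 : l * l = k * k := by
          have h6 : t * (l⁻¹ * k) * t = l * k⁻¹ := by
            calc t * (l⁻¹ * k) * t = (t * l⁻¹) * (k * t) := by group
              _ = (l * t) * (k * t) := by rw [h4]
              _ = l * (t * k * t) := by group
              _ = l * k⁻¹ := by rw [hkt]
          have h7 : t * (l⁻¹ * k) * t = l⁻¹ * k := by rw [← h2, mul_assoc, htt, mul_one]
          rw [h6] at h7
          calc l * l = l * (l * k⁻¹) * k := by group
            _ = l * (l⁻¹ * k) * k := by rw [h7]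
            _ = k * k := by group
        exact Subtype.ext (sq_inj hS.odd_card hkD hlD h5.symm)
      · rintro ⟨s, hs, hs1', hss'⟩
        obtain ⟨m, hm, hmt, he⟩ := surj_special hS hs₀ hs1 hss hr h hs hs1' hss'
        exact ⟨⟨m, (mem_K hS).mpr ⟨hm, hmt⟩⟩, Subtype.ext he.symm⟩
  · rintro s ⟨hs, hs1', hss'⟩ s' ⟨hs', hs1'', hss''⟩
    obtain ⟨m, hm, hmt, he⟩ := surj_special hS hs₀ hs1 hss hr h hs hs1' hss'
    obtain ⟨m', hm', hmt', he'⟩ := surj_special hS hs₀ hs1 hss hr h hs' hs1'' hss''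
    -- t_s := m t m⁻¹
    have tsq : ∀ m : G, (m * t * m⁻¹) * (m * t * m⁻¹) = 1 := fun m => by
      calc (m * t * m⁻¹) * (m * t * m⁻¹) = m * (t * t) * m⁻¹ := by group
        _ = 1 := by rw [htt]; group
    have tmap : ∀ m ∈ DD G a t, (m * t * m⁻¹) • a = t • a := fun m hm => by
      rw [mul_smul, mul_smul, show m⁻¹ • a = a from ((DD G a t).inv_mem hm).1, show m • (t • a) = t • a from hm.2]
    have tmap' : ∀ m ∈ DD G a t, (m * t * m⁻¹) • (t • a) = a := fun m hm => by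
      rw [mul_smul, mul_smul, show m⁻¹ • (t • a) = t • a from ((DD G a t).inv_mem hm).2, ttb hS, show m • a = a from hm.1]
    obtain ⟨w, hww, hwa, hw⟩ := T_swap hS (u := t * (m * t * m⁻¹) * t) (v := m' * t * m'⁻¹) (by
      calc t * (m * t * m⁻¹) * t * (t * (m * t * m⁻¹) * t) = t * (m * t * m⁻¹) * (t * t) * (m * t * m⁻¹) * t := by group
        _ = t * ((m * t * m⁻¹) * (m * t * m⁻¹)) * t := by rw [htt]; group
        _ = 1 := by rw [tsq, mul_one, htt]) (tsq m') (by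
      rw [mul_smul, mul_smul, tmap' m hm]) (tmap m' hm')
    have hwb : w • (t • a) = a := by rw [← hwa, ← mul_smul, hww, one_smul]
    have hwi : w⁻¹ = w := inv_eq_of_mul_eq_one_left hww
    have hkD : t * w ∈ DD G a t := by
      refine Subgroup.mem_inf.mpr ⟨?_, ?_⟩
      · rw [MulAction.mem_stabilizer_iff, mul_smul, hwa, ttb hS]
      · rw [MulAction.mem_stabilizer_iff, mul_smul, hwb]
    have hki : (t * w)⁻¹ = w * t := by rw [mul_inv_rev, hwi, tinv hS]
    refine ⟨t * w, (mem_K hS).mpr ⟨hkD, dih_aux htt hww⟩, ?_⟩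
    have e1 : (t * w)⁻¹ * (m * t * m⁻¹) * (t * w) = m' * t * m'⁻¹ := by
      rw [hki, ← hw]; group
    -- g := m'⁻¹ k⁻¹ m commutes with t
    have hgD : m'⁻¹ * (t * w)⁻¹ * m ∈ DD G a t :=
      (DD G a t).mul_mem ((DD G a t).mul_mem ((DD G a t).inv_mem hm') ((DD G a t).inv_mem hkD)) hm
    have hgt : (m'⁻¹ * (t * w)⁻¹ * m) * t = t * (m'⁻¹ * (t * w)⁻¹ * m) := by
      calc (m'⁻¹ * (t * w)⁻¹ * m) * t = m'⁻¹ * ((t * w)⁻¹ * (m * t * m⁻¹) * (t * w)) * (t * w)⁻¹ * m := by group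
        _ = m'⁻¹ * (m' * t * m'⁻¹) * (t * w)⁻¹ * m := by rw [e1]
        _ = t * (m'⁻¹ * (t * w)⁻¹ * m) := by group
    have hgs := VC_le hS hs₀ hs1 hss hr h hgD hgt
    calc (t * w)⁻¹ * s * (t * w) = m' * ((m'⁻¹ * (t * w)⁻¹ * m) * s₀) * m⁻¹ * (t * w) := by rw [he]; group
      _ = m' * (s₀ * (m'⁻¹ * (t * w)⁻¹ * m)) * m⁻¹ * (t * w) := by rw [hgs]
      _ = m' * s₀ * m'⁻¹ := by group
      _ = s' := he'.symm

theorem s1125 {X : Set G} (hX : X ⊆ (DD G a t : Set G))
    (h3 : ∃ b c d : Ω, b ≠ c ∧ b ≠ d ∧ c ≠ d ∧ ∀ x ∈ X, x • b = b ∧ x • c = c ∧ x • d = d) :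
    Even (Nat.card ↥(Subgroup.centralizer X ⊓ Q)) ∧
      (Subgroup.centralizer X ⊓ Q) ⊔ (Subgroup.centralizer X ⊓ DD G a t) = Subgroup.centralizer X ⊓ MulAction.stabilizer G a := by
  constructor
  · obtain ⟨u, hu, hu1, huu, hua⟩ := exists_swap hS hX h3
    obtain ⟨c, hc, hcu⟩ := inv_fix hS hu1 huu
    have hXc : ∀ x ∈ X, x • c = c := fun x hx =>
      fix_of_comm hS hu1 huu hc (Subgroup.mem_centralizer_iff.mp hu x hx)
    -- conjugate `u` so that it fixes `a`
    obtain ⟨g, hg, hga⟩ : ∃ g ∈ Subgroup.centralizer X, g • c = a := by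
      by_cases h : c = a
      · exact ⟨1, Subgroup.one_mem _, by rw [one_smul, h]⟩
      · obtain ⟨g, hg, h1, -⟩ := C_two hS hX h3 c a a c (fun x hx => ⟨hXc x hx, (hX hx).1, (hX hx).1, hXc x hx⟩) h (Ne.symm h)
        exact ⟨g, hg, h1⟩
    have hs1 : g * u * g⁻¹ ≠ 1 := by
      intro h1; apply hu1
      calc u = g⁻¹ * (g * u * g⁻¹) * g := by group
        _ = 1 := by rw [h1]; group
    have hss : g * u * g⁻¹ * (g * u * g⁻¹) = 1 := by
      calc g * u * g⁻¹ * (g * u * g⁻¹) = g * (u * u) * g⁻¹ := by group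
        _ = 1 := by rw [huu]; group
    have hsa : (g * u * g⁻¹) • a = a := by
      rw [mul_smul, mul_smul, ← hga, inv_smul_smul, hc]
    have hsQ := inv_mem_Q hS hsa hss
    have hsC : g * u * g⁻¹ ∈ Subgroup.centralizer X := Subgroup.mul_mem _ (Subgroup.mul_mem _ hg hu) (Subgroup.inv_mem _ hg)
    have hmem : g * u * g⁻¹ ∈ Subgroup.centralizer X ⊓ Q := Subgroup.mem_inf.mpr ⟨hsC, hsQ⟩
    have ho : orderOf (⟨g * u * g⁻¹, hmem⟩ : ↥(Subgroup.centralizer X ⊓ Q)) = 2 := by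
      apply orderOf_eq_prime
      · rw [pow_two]; exact Subtype.ext hss
      · intro h; exact hs1 (congrArg Subtype.val h)
    rw [even_iff_two_dvd, ← ho]
    exact orderOf_dvd_natCard _
  · apply le_antisymm
    · refine sup_le ?_ ?_
      · exact inf_le_inf le_rfl hS.le
      · exact inf_le_inf le_rfl inf_le_left
    · intro g hg
      obtain ⟨hgC, hga⟩ := Subgroup.mem_inf.mp hg
      have hgx := Subgroup.mem_centralizer_iff.mp hgC
      have hga' : g • a = a := hga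
      have h1 : g • (t • a) ≠ a := by
        intro h
        apply tne hS
        have h2 : g • (t • a) = g • a := by rw [h, hga']
        exact smul_left_cancel g h2
      obtain ⟨q, hq, hqb, hqX⟩ := CQ_trans hS hX h1 (fun x hx => by
        rw [← mul_smul, hgx x hx, mul_smul, show x • (t • a) = t • a from (hX hx).2])
      have hqC : q ∈ Subgroup.centralizer X := Subgroup.mem_centralizer_iff.mpr hqX
      have h2 : q⁻¹ * g ∈ Subgroup.centralizer X ⊓ DD G a t := by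
        refine Subgroup.mem_inf.mpr ⟨Subgroup.mul_mem _ (Subgroup.inv_mem _ hqC) hgC, Subgroup.mem_inf.mpr ⟨?_, ?_⟩⟩
        · exact (MulAction.stabilizer G a).mul_mem ((MulAction.stabilizer G a).inv_mem (hS.le hq)) hga
        · rw [MulAction.mem_stabilizer_iff, mul_smul, ← hqb, inv_smul_smul]
      have h4 : g = q * (q⁻¹ * g) := by group
      rw [h4]
      exact Subgroup.mul_mem_sup (Subgroup.mem_inf.mpr ⟨hqC, hq⟩) h2

theorem s1126 {X : Set G} (hX : X ⊆ (DD G a t : Set G))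
    (h3 : ∃ b c d : Ω, b ≠ c ∧ b ≠ d ∧ c ≠ d ∧ ∀ x ∈ X, x • b = b ∧ x • c = c ∧ x • d = d) :
    ∃ k ∈ DD G a t, ∀ x ∈ X, (k * x * k⁻¹) * t = t * (k * x * k⁻¹) := by
  obtain ⟨u, hu, hu1, huu, hua⟩ := exists_swap hS hX h3
  obtain ⟨m, hm, hmt, he⟩ := T_lemma hS huu hua
  refine ⟨m, hm, fun x hx => ?_⟩
  have h1 : x * u = u * x := Subgroup.mem_centralizer_iff.mp hu x hx
  have h2 : t = m * u * m⁻¹ := by rw [he]; group
  calc (m * x * m⁻¹) * t = m * (x * u) * m⁻¹ := by rw [h2]; group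
    _ = m * (u * x) * m⁻¹ := by rw [h1]
    _ = t * (m * x * m⁻¹) := by rw [h2]; group

theorem s1127a {s r : G} (hs : s ∈ Cfsg.involutionsIn (MulAction.stabilizer G a : Set G)) (hr : r ∈ Q) (h : t * s * t = r⁻¹ * t * r)
    {d : G} (hd : d ∈ DD G a t) : d * t = t * d ↔ d * s = s * d :=
  ⟨fun h1 => VC_le hS (inv_mem_Q hS hs.1 hs.2.2) hs.2.1 hs.2.2 hr h hd h1,
    fun h1 => CV_le hS (inv_mem_Q hS hs.1 hs.2.2) hs.2.1 hs.2.2 hr h hd h1⟩

theorem s1127 :
    (∀ s r : G, s ∈ Cfsg.involutionsIn (MulAction.stabilizer G a : Set G) → r ∈ Q → t * s * t = r⁻¹ * t * r →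
        DD G a t ⊓ Subgroup.centralizer {t} = DD G a t ⊓ Subgroup.centralizer {s}) ∧
      DD G a t ⊓ Subgroup.centralizer {t} ⊓ Subgroup.centralizer (Cfsg.invertedBy (DD G a t) t) =
        DD G a t ⊓ Subgroup.centralizer (Cfsg.involutionsIn (MulAction.stabilizer G a : Set G)) := by
  have htt := hS.mul_self
  constructor
  · intro s r hs hr h
    ext d
    constructor
    · intro h1
      obtain ⟨hd, h2⟩ := Subgroup.mem_inf.mp h1
      exact Subgroup.mem_inf.mpr ⟨hd, Subgroup.mem_centralizer_singleton_iff.mpr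
        ((s1127a hS hs hr h hd).mp (Subgroup.mem_centralizer_singleton_iff.mp h2))⟩
    · intro h1
      obtain ⟨hd, h2⟩ := Subgroup.mem_inf.mp h1
      exact Subgroup.mem_inf.mpr ⟨hd, Subgroup.mem_centralizer_singleton_iff.mpr
        ((s1127a hS hs hr h hd).mpr (Subgroup.mem_centralizer_singleton_iff.mp h2))⟩
  · obtain ⟨s₀, hs₀, hs1, hss, r, hr, h⟩ := exists_special hS
    have hs₀I : s₀ ∈ Cfsg.involutionsIn (MulAction.stabilizer G a : Set G) := ⟨hS.le hs₀, hs1, hss⟩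
    ext d
    constructor
    · intro h0
      obtain ⟨h01, hdK⟩ := Subgroup.mem_inf.mp h0
      obtain ⟨hd, hdt⟩ := Subgroup.mem_inf.mp h01
      rw [Subgroup.mem_centralizer_singleton_iff] at hdt
      rw [Subgroup.mem_centralizer_iff] at hdK
      refine Subgroup.mem_inf.mpr ⟨hd, Subgroup.mem_centralizer_iff.mpr fun s hs => ?_⟩
      obtain ⟨m, hm, hmt, he⟩ := surj_special hS hs₀ hs1 hss hr h hs.1 hs.2.1 hs.2.2
      have h1 := hdK m ((mem_K hS).mpr ⟨hm, hmt⟩)
      have h2 := (s1127a hS hs₀I hr h hd).mp hdt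
      have c1 : Commute d m := h1.symm
      have c2 : Commute d s₀ := h2
      rw [he]
      exact ((c1.mul_right c2).mul_right c1.inv_right).eq.symm
    · intro h0
      obtain ⟨hd, hdI⟩ := Subgroup.mem_inf.mp h0
      rw [Subgroup.mem_centralizer_iff] at hdI
      have h1 : d * s₀ = s₀ * d := (hdI s₀ hs₀I).symm
      refine Subgroup.mem_inf.mpr ⟨Subgroup.mem_inf.mpr ⟨hd, Subgroup.mem_centralizer_singleton_iff.mpr
        ((s1127a hS hs₀I hr h hd).mpr h1)⟩, Subgroup.mem_centralizer_iff.mpr fun k hk => ?_⟩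
      have hdt := (s1127a hS hs₀I hr h hd).mpr h1
      obtain ⟨hkD, hkt⟩ := (mem_K hS).mp hk
      have hks : k * s₀ * k⁻¹ ∈ Cfsg.involutionsIn (MulAction.stabilizer G a : Set G) := by
        refine ⟨hS.le (hS.conj_mem k hkD.1 s₀ hs₀), ?_, ?_⟩
        · intro h1; apply hs1
          calc s₀ = k⁻¹ * (k * s₀ * k⁻¹) * k := by group
            _ = 1 := by rw [h1]; group
        · calc k * s₀ * k⁻¹ * (k * s₀ * k⁻¹) = k * (s₀ * s₀) * k⁻¹ := by group
            _ = 1 := by rw [hss]; group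
      have h2 := hdI _ hks
      have hkd : k⁻¹ * d * k ∈ DD G a t := (DD G a t).mul_mem ((DD G a t).mul_mem ((DD G a t).inv_mem hkD) hd) hkD
      have h3 : (k⁻¹ * d * k) * s₀ = s₀ * (k⁻¹ * d * k) := by
        calc (k⁻¹ * d * k) * s₀ = k⁻¹ * (d * (k * s₀ * k⁻¹)) * k := by group
          _ = k⁻¹ * ((k * s₀ * k⁻¹) * d) * k := by rw [h2]
          _ = s₀ * (k⁻¹ * d * k) := by group
      have h4 := (s1127a hS hs₀I hr h hkd).mpr h3
      -- `k * k` commutes with `d`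
      have e1 := K_comm hS hkt
      have e2 := K_comm' hS hkt
      have h5 : k * k * d = d * (k * k) := by
        have h6 : t * (k⁻¹ * d * k) * t = k * d * k⁻¹ := by
          calc t * (k⁻¹ * d * k) * t = (t * k⁻¹) * d * (k * t) := by group
            _ = (k * t) * d * (t * k⁻¹) := by rw [e2]
            _ = k * (t * d) * t * k⁻¹ := by group
            _ = k * (d * t) * t * k⁻¹ := by rw [hdt]
            _ = k * d * (t * t) * k⁻¹ := by group
            _ = k * d * k⁻¹ := by rw [htt]; group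
        have h7 : t * (k⁻¹ * d * k) * t = k⁻¹ * d * k := by rw [← h4, mul_assoc, htt, mul_one]
        rw [h6] at h7
        calc k * k * d = k * (k * d * k⁻¹) * k := by group
          _ = k * (k⁻¹ * d * k) * k := by rw [h7]
          _ = d * (k * k) := by group
      exact comm_of_comm_sq hS.odd_card hkD h5

/-- elements of `K` act fixed-point-freely on `Q` -/
theorem s1128 {x : G} (hx : x ∈ Cfsg.invertedBy (DD G a t) t) (hx1 : x ≠ 1) : Q ⊓ Subgroup.centralizer {x} = ⊥ := by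
  have htt := hS.mul_self
  obtain ⟨hxD, hxt⟩ := (mem_K hS).mp hx
  rw [eq_bot_iff]
  intro q hq
  obtain ⟨hqQ, hqx⟩ := Subgroup.mem_inf.mp hq
  rw [Subgroup.mem_centralizer_singleton_iff] at hqx
  rw [Subgroup.mem_bot]
  by_contra hq1
  apply hx1
  have hxb : x • (t • a) = t • a := hxD.2
  have hxa : x • a = a := hxD.1
  obtain ⟨k, hk, hkx⟩ := s1126 hS (X := {x}) (by rintro _ rfl; exact hxD) ⟨a, t • a, q • (t • a), (tne hS).symm, by
      intro h
      have h1 : q • a = q • (t • a) := by rw [memQ_fix hS hqQ]; exact h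
      exact tne hS (smul_left_cancel _ h1).symm, by
      intro h
      exact hq1 (semireg hS hqQ (tne hS) h.symm), by
      rintro _ rfl
      refine ⟨hxa, hxb, ?_⟩
      rw [← mul_smul, ← hqx, mul_smul, hxb]⟩
  have h1 := hkx x rfl
  -- `t' = k⁻¹ t k` commutes with `x`
  have h2 : x * (k⁻¹ * t * k) = (k⁻¹ * t * k) * x := by
    calc x * (k⁻¹ * t * k) = k⁻¹ * ((k * x * k⁻¹) * t) * k := by group
      _ = k⁻¹ * (t * (k * x * k⁻¹)) * k := by rw [h1]
      _ = (k⁻¹ * t * k) * x := by group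
  have hyD : t * (k⁻¹ * t * k) ∈ DD G a t := by
    have h3 : t * (k⁻¹ * t * k) = (t * k⁻¹ * t) * k := by group
    rw [h3]
    exact (DD G a t).mul_mem (conj_D hS ((DD G a t).inv_mem hk)) hk
  set y := t * (k⁻¹ * t * k) with hy
  have hyx : y * x * y⁻¹ = x⁻¹ := by
    have hki : (k⁻¹ * t * k) * (k⁻¹ * t * k)⁻¹ = 1 := mul_inv_cancel _
    calc y * x * y⁻¹ = t * ((k⁻¹ * t * k) * x) * (k⁻¹ * t * k)⁻¹ * t⁻¹ := by rw [hy]; group
      _ = t * (x * (k⁻¹ * t * k)) * (k⁻¹ * t * k)⁻¹ * t⁻¹ := by rw [h2]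
      _ = t * x * t := by rw [tinv hS]; group
      _ = x⁻¹ := hxt
  have h4 : y * y * x = x * (y * y) := by
    have h5 : y * x = x⁻¹ * y := by rw [← hyx]; group
    have h6 : y * x⁻¹ = x * y := by
      calc y * x⁻¹ = (y * x * y⁻¹)⁻¹ * y := by group
        _ = x * y := by rw [hyx, inv_inv]
    calc y * y * x = y * (y * x) := by group
      _ = y * x⁻¹ * y := by rw [h5]; group
      _ = x * (y * y) := by rw [h6]; group
  have h5 := comm_of_comm_sq hS.odd_card hyD h4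
  have h6 : x = x⁻¹ := by
    rw [← hyx, h5]; group
  apply eq_one_of_sq hS.odd_card hxD
  nth_rewrite 1 [h6]
  exact inv_mul_cancel x

theorem s1134 (X : Set G) (hX : X ⊆ ((DD G a t ⊓ Subgroup.centralizer {t} : Subgroup G) : Set G)) (g : G)
    (hY : (fun x => g * x * g⁻¹) '' X ⊆ ((DD G a t ⊓ Subgroup.centralizer {t} : Subgroup G) : Set G)) :
    ∃ v ∈ DD G a t ⊓ Subgroup.centralizer {t}, (fun x => v * x * v⁻¹) '' X = (fun x => g * x * g⁻¹) '' X := by
  have htt := hS.mul_self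
  obtain ⟨s₀, hs₀, hs1, hss, r, hr, h⟩ := exists_special hS
  have hs₀I : s₀ ∈ Cfsg.involutionsIn (MulAction.stabilizer G a : Set G) := ⟨hS.le hs₀, hs1, hss⟩
  -- points fixed by elements of V
  have fix3 : ∀ x ∈ DD G a t ⊓ Subgroup.centralizer {t}, x • a = a ∧ x • (t • a) = t • a ∧ x • (s₀ • (t • a)) = s₀ • (t • a) := by
    intro x hx
    obtain ⟨hxD, hxt⟩ := Subgroup.mem_inf.mp hx
    rw [Subgroup.mem_centralizer_singleton_iff] at hxt
    have h1 := (s1127a hS hs₀I hr h hxD).mp hxt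
    refine ⟨hxD.1, hxD.2, ?_⟩
    rw [← mul_smul, h1, mul_smul, show x • (t • a) = t • a from hxD.2]
  have h3a : a ≠ s₀ • (t • a) := by
    intro h
    have h1 : s₀ • a = s₀ • (t • a) := by rw [memQ_fix hS hs₀]; exact h
    exact tne hS (smul_left_cancel _ h1).symm
  have h3b : t • a ≠ s₀ • (t • a) := fun h => hs1 (semireg hS hs₀ (tne hS) h.symm)
  set Y := (fun x => g * x * g⁻¹) '' X with hYdef
  have hYD : Y ⊆ (DD G a t : Set G) := fun y hy => (hY hy).1
  have hXfix : ∀ x ∈ X, x • a = a ∧ x • (t • a) = t • a := fun x hx => ⟨(fix3 x (hX hx)).1, (fix3 x (hX hx)).2.1⟩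
  obtain ⟨c, hc, hca, hcb⟩ := C_two hS hYD ⟨a, t • a, s₀ • (t • a), (tne hS).symm, h3a, h3b, fun y hy => fix3 y (hY hy)⟩
    (g • a) (g • (t • a)) a (t • a) (by
      intro y hy
      refine ⟨?_, ?_, (fix3 y (hY hy)).1, (fix3 y (hY hy)).2.1⟩
      · obtain ⟨x, hx, rfl⟩ := hy
        change (g * x * g⁻¹) • (g • a) = g • a
        rw [mul_smul, inv_smul_smul, mul_smul, (hXfix x hx).1]
      · obtain ⟨x, hx, rfl⟩ := hy
        change (g * x * g⁻¹) • (g • (t • a)) = g • (t • a)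
        rw [mul_smul, inv_smul_smul, mul_smul, (hXfix x hx).2]) (by
      intro h; exact tne hS (smul_left_cancel g h).symm) (tne hS).symm
  have hd : c * g ∈ DD G a t := by
    refine Subgroup.mem_inf.mpr ⟨?_, ?_⟩
    · rw [MulAction.mem_stabilizer_iff, mul_smul, hca]
    · rw [MulAction.mem_stabilizer_iff, mul_smul, hcb]
  have hdx : ∀ x ∈ X, (c * g) * x * (c * g)⁻¹ = g * x * g⁻¹ := by
    intro x hx
    have h1 : (g * x * g⁻¹) * c = c * (g * x * g⁻¹) := Subgroup.mem_centralizer_iff.mp hc _ ⟨x, hx, rfl⟩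
    calc (c * g) * x * (c * g)⁻¹ = c * (g * x * g⁻¹) * c⁻¹ := by group
      _ = g * x * g⁻¹ := by rw [← h1]; group
  obtain ⟨v, hv, hvt, z, hz, hzt, he⟩ := VK_exists htt hS.odd_card (fun x hx => conj_D hS hx) hd
  refine ⟨v, Subgroup.mem_inf.mpr ⟨hv, Subgroup.mem_centralizer_singleton_iff.mpr hvt.symm⟩, ?_⟩
  have key : ∀ x ∈ X, v * x * v⁻¹ = g * x * g⁻¹ := by
    intro x hx
    have h1 := hdx x hx
    have hxt : x * t = t * x := Subgroup.mem_centralizer_singleton_iff.mp (hX hx).2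
    have hyt : (g * x * g⁻¹) * t = t * (g * x * g⁻¹) := Subgroup.mem_centralizer_singleton_iff.mp (hY ⟨x, hx, rfl⟩).2
    rw [← h1, he] at hyt
    -- z x z⁻¹ commutes with t
    have hvi : v⁻¹ * t = t * v⁻¹ := by
      calc v⁻¹ * t = v⁻¹ * (t * v) * v⁻¹ := by group
        _ = t * v⁻¹ := by rw [hvt]; group
    have h2 : (z * x * z⁻¹) * t = t * (z * x * z⁻¹) := by
      calc (z * x * z⁻¹) * t = v⁻¹ * ((v * z * x * (v * z)⁻¹) * (v * t)) := by group
        _ = v⁻¹ * ((v * z * x * (v * z)⁻¹) * t) * v := by rw [← hvt]; group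
        _ = v⁻¹ * (t * (v * z * x * (v * z)⁻¹)) * v := by rw [hyt]
        _ = (v⁻¹ * t) * (v * z * x * (v * z)⁻¹) * v := by group
        _ = t * (z * x * z⁻¹) := by rw [hvi]; group
    have e1 := K_comm hS hzt
    have e2 := K_comm' hS hzt
    have h3 : t * (z * x * z⁻¹) * t = z⁻¹ * x * z := by
      calc t * (z * x * z⁻¹) * t = (t * z) * x * (z⁻¹ * t) := by group
        _ = (z⁻¹ * t) * x * (t * z) := by rw [e1]
        _ = z⁻¹ * (t * x) * t * z := by group
        _ = z⁻¹ * (x * t) * t * z := by rw [hxt]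
        _ = z⁻¹ * x * (t * t) * z := by group
        _ = z⁻¹ * x * z := by rw [htt]; group
    have h4 : z * x * z⁻¹ = z⁻¹ * x * z := by
      rw [← h3, ← h2, mul_assoc (z * x * z⁻¹) t t, htt, mul_one]
    have h5 : z * z * x = x * (z * z) := by
      calc z * z * x = z * (z * x * z⁻¹) * z := by group
        _ = z * (z⁻¹ * x * z) * z := by rw [h4]
        _ = x * (z * z) := by group
    have h6 := comm_of_comm_sq hS.odd_card hz h5
    rw [← h1, he]
    calc v * x * v⁻¹ = v * (x * z) * z⁻¹ * v⁻¹ := by group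
      _ = v * (z * x) * z⁻¹ * v⁻¹ := by rw [h6]
      _ = v * z * x * (v * z)⁻¹ := by group
  exact Set.image_congr key

end Setup

end Cfsg.Agent.L0.R1
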