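import Cfsg.Agent.L0.R1.Two
import Cfsg.Agent.L0.Core
import Cfsg.Agent.S0058
import Cfsg.Agent.H3.Kegel

set_option autoImplicit false
set_option maxHeartbeats 1000000

namespace Cfsg.Agent.L0.R1
open Cfsg

section Setup
variable {G Ω : Type*} [Group G] [Finite G] [MulAction G Ω] {a : Ω} {t : G} {Q : Subgroup G}
variable (hS : Cfsg.IsRankOneSetup G Ω a t Q)
include hS

omit [Finite G] in
theorem mem_K {x : G} : x ∈ Cfsg.invertedBy (DD G a t) t ↔ x ∈ DD G a t ∧ t * x * t = x⁻¹ := by
  unfold Cfsg.invertedBy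
  rw [Set.mem_setOf_eq, tinv hS]

theorem s1118 :
    (∀ X : Set G, X ⊆ (Q : Set G) → (∃ x ∈ X, x ≠ 1) → Subgroup.normalizer X ≤ MulAction.stabilizer G a) ∧
      Subgroup.normalizer (Q : Set G) = MulAction.stabilizer G a ∧
      Subgroup.normalizer (MulAction.stabilizer G a : Set G) = MulAction.stabilizer G a := by
  have h1 : ∀ X : Set G, X ⊆ (Q : Set G) → (∃ x ∈ X, x ≠ 1) → Subgroup.normalizer X ≤ MulAction.stabilizer G a := by
    rintro X hX ⟨x, hx, hx1⟩ g hg
    have h2 : g * x * g⁻¹ ∈ X := (Subgroup.mem_set_normalizer_iff.mp hg x).mp hx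
    rw [MulAction.mem_stabilizer_iff]
    by_contra hga
    apply hx1
    have h3 : g * x * g⁻¹ = 1 := by
      refine semireg hS (hX h2) hga ?_
      rw [← mul_smul, inv_mul_cancel_right, mul_smul, memQ_fix hS (hX hx)]
    calc x = g⁻¹ * (g * x * g⁻¹) * g := by group
      _ = 1 := by rw [h3]; group
  obtain ⟨s, hs, hs1, hss⟩ := exists_inv_Q hS
  refine ⟨h1, le_antisymm (h1 _ le_rfl ⟨s, hs, hs1⟩) ?_, le_antisymm ?_ Subgroup.le_normalizer⟩
  · intro g hg
    rw [Subgroup.mem_normalizer_iff]
    intro h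
    refine ⟨fun hh => hS.conj_mem g hg h hh, fun hh => ?_⟩
    have h2 := hS.conj_mem g⁻¹ ((MulAction.stabilizer G a).inv_mem hg) _ hh
    have h3 : g⁻¹ * (g * h * g⁻¹) * g⁻¹⁻¹ = h := by group
    rwa [h3] at h2
  · intro g hg
    rw [MulAction.mem_stabilizer_iff]
    by_contra hga
    apply hs1
    refine semireg hS hs hga ?_
    have h2 := (Subgroup.mem_normalizer_iff.mp ((Subgroup.normalizer _).inv_mem hg) s).mp (hS.le hs)
    have h3 : (g⁻¹ * s * g⁻¹⁻¹) • a = a := h2
    rw [inv_inv] at h3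
    calc s • g • a = g • ((g⁻¹ * s * g) • a) := by rw [← mul_smul, ← mul_smul]; congr 1; group
      _ = g • a := by rw [h3]

theorem s1119 :
    (∀ b c : Ω, b ≠ a → c ≠ a → ∃! x : Q, (x : G) • b = c) ∧
      Nat.card Ω = Nat.card Q + 1 ∧
      Nat.card G = Nat.card Q * Nat.card ↥(MulAction.stabilizer G a ⊓ MulAction.stabilizer G (t • a)) * (Nat.card Q + 1) ∧
      (∃ P : Sylow 2 G, (P : Subgroup G) ≤ Q) ∧
      ∀ g : G, g ∉ MulAction.stabilizer G a → ∃! p : G × G, p.1 ∈ MulAction.stabilizer G a ∧ p.2 ∈ Q ∧ g = p.1 * t * p.2 := by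
  have hcard : Nat.card G = Nat.card Q * Nat.card ↥(DD G a t) * (Nat.card Q + 1) := by
    haveI : MulAction.IsPretransitive G Ω := ⟨fun c d => by
      by_cases h : c = d
      · exact ⟨1, by rw [one_smul, h]⟩
      · obtain ⟨g, hg, -⟩ := exists_map hS h (Ne.symm h)
        exact ⟨g, hg⟩⟩
    have h1 : Nat.card (MulAction.stabilizer G a) = Nat.card Q * Nat.card ↥(DD G a t) := by
      rw [← Nat.card_prod]
      refine (Nat.card_congr (Equiv.ofBijective (fun p : Q × DD G a t => (⟨p.1 * p.2, (MulAction.stabilizer G a).mul_mem (hS.le p.1.2) p.2.2.1⟩ : MulAction.stabilizer G a)) ?_)).symm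
      constructor
      · rintro ⟨q, d⟩ ⟨q', d'⟩ h
        have h2 : (q : G) * d = q' * d' := congrArg Subtype.val h
        have h3 : (q : G) • (t • a) = (q' : G) • (t • a) := by
          have h4 : ((q : G) * d) • (t • a) = ((q' : G) * d') • (t • a) := by rw [h2]
          rwa [mul_smul, mul_smul, show (d : G) • (t • a) = t • a from d.2.2, show (d' : G) • (t • a) = t • a from d'.2.2] at h4
        have h5 := Q_uniq hS q.2 q'.2 (tne hS) h3
        have h6 : q = q' := Subtype.ext h5
        subst h6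
        have h7 : d = d' := Subtype.ext (mul_left_cancel h2)
        rw [h7]
      · rintro ⟨g, hg⟩
        obtain ⟨q, hq, d, hd, rfl⟩ := decomp hS hg
        exact ⟨(⟨q, hq⟩, ⟨d, hd⟩), rfl⟩
    rw [← h1, ← card_pts hS, ← MulAction.index_stabilizer_of_transitive G a, Subgroup.card_mul_index]
  refine ⟨?_, card_pts hS, hcard, ?_, ?_⟩
  · intro b c hb hc
    obtain ⟨q, hq, rfl⟩ := Q_trans hS hb
    obtain ⟨q', hq', rfl⟩ := Q_trans hS hc
    refine ⟨⟨q' * q⁻¹, Q.mul_mem hq' (Q.inv_mem hq)⟩, ?_, ?_⟩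
    · change (q' * q⁻¹) • (q • t • a) = q' • t • a
      rw [mul_smul, inv_smul_smul]
    · intro y hy
      apply Subtype.ext
      apply Q_uniq hS y.2 (Q.mul_mem hq' (Q.inv_mem hq)) hb
      rw [hy, mul_smul, inv_smul_smul]
  · obtain ⟨S⟩ : Nonempty (Sylow 2 Q) := inferInstance
    obtain ⟨P, hP⟩ := (S.isPGroup'.map Q.subtype).exists_le_sylow
    refine ⟨P, ?_⟩
    have h1 : Nat.card ((S : Subgroup Q).map Q.subtype) = 2 ^ (Nat.card Q).factorization 2 := by
      rw [← S.card_eq_multiplicity]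
      exact Nat.card_congr ((S : Subgroup Q).equivMapOfInjective Q.subtype Q.subtype_injective).symm.toEquiv
    have h2 : (Nat.card G).factorization 2 = (Nat.card Q).factorization 2 := by
      have hD := hS.odd_card
      have hQe := hS.even_card
      have hQ1 : Odd (Nat.card Q + 1) := hQe.add_one
      rw [hcard, Nat.factorization_mul (mul_ne_zero Nat.card_pos.ne' Nat.card_pos.ne') (Nat.succ_ne_zero _),
        Nat.factorization_mul Nat.card_pos.ne' Nat.card_pos.ne']
      simp only [Finsupp.coe_add, Pi.add_apply]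
      rw [Nat.factorization_eq_zero_of_not_dvd (n := Nat.card ↥(DD G a t)) (p := 2) (by
        intro h; exact (Nat.not_even_iff_odd.mpr hD) (even_iff_two_dvd.mpr h)),
        Nat.factorization_eq_zero_of_not_dvd (n := Nat.card Q + 1) (p := 2) (by
        intro h; exact (Nat.not_even_iff_odd.mpr hQ1) (even_iff_two_dvd.mpr h))]
      simp
    have h3 : (S : Subgroup Q).map Q.subtype = P := by
      apply Subgroup.eq_of_le_of_card_ge hP
      rw [h1, P.card_eq_multiplicity, h2]
    rw [← h3]
    exact Subgroup.map_subtype_le _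
  · intro g hg
    have h1 : g⁻¹ • a ≠ a := by
      intro h
      apply hg
      rw [MulAction.mem_stabilizer_iff]
      nth_rewrite 1 [← h]
      rw [smul_inv_smul]
    obtain ⟨y, hy, hya⟩ := Q_trans hS h1
    -- `y • t a = g⁻¹ a`
    have h2 : (g * y * t) • a = a := by rw [mul_smul, mul_smul, hya, smul_inv_smul]
    refine ⟨(g * y * t, y⁻¹), ⟨h2, Q.inv_mem hy, ?_⟩, ?_⟩
    · change g = g * y * t * t * y⁻¹
      calc g = g * y * (t * t) * y⁻¹ := by rw [hS.mul_self]; group
        _ = g * y * t * t * y⁻¹ := by group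
    · rintro ⟨x, z⟩ ⟨hx, hz, he⟩
      have hx' : x • a = a := hx
      change g = x * t * z at he
      have h3 : z⁻¹ • (t • a) = y • (t • a) := by
        rw [hya, he]
        have h4 : (x * t * z)⁻¹ • a = z⁻¹ • (t⁻¹ • (x⁻¹ • a)) := by rw [← mul_smul, ← mul_smul]; congr 1; group
        rw [h4, inv_smul_eq_iff.mpr hx'.symm, tinv hS]
      have h5 := Q_uniq hS (Q.inv_mem hz) hy (tne hS) h3
      have h6 : z = y⁻¹ := by rw [← h5, inv_inv]
      rw [h6] at he
      refine Prod.ext ?_ h6
      change x = g * y * t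
      rw [he]
      calc x = x * (t * t) := by rw [hS.mul_self, mul_one]
        _ = x * t * y⁻¹ * y * t := by group

/-- any two involutions are conjugate -/
theorem conj_inv {u v : G} (hu : u ≠ 1) (huu : u * u = 1) (hv : v ≠ 1) (hvv : v * v = 1) : ∃ g : G, g * u * g⁻¹ = v := by
  have main : ∀ u v : G, u ≠ 1 → u * u = 1 → v ≠ 1 → v * v = 1 → ∀ c : Ω, u • c = c → v • c ≠ c → ∃ g : G, g * u * g⁻¹ = v := by
    intro u v hu huu hv hvv c hc hc'
    obtain ⟨m, h1, h2⟩ := dih_swap huu hvv (odd_of_ne hS hu huu hv hvv hc hc')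
    refine ⟨(u * v) ^ m * u, ?_⟩
    rw [inv_eq_of_mul_eq_one_left h1]; exact h2
  obtain ⟨c, hc, hcu⟩ := inv_fix hS hu huu
  by_cases h : v • c = c
  · -- third involution
    obtain ⟨d, hd⟩ : ∃ d : Ω, d ≠ c := by
      by_cases h1 : c = a
      · exact ⟨t • a, by rw [h1]; exact tne hS⟩
      · exact ⟨a, fun h => h1 h.symm⟩
    obtain ⟨g, hg, -⟩ := exists_map hS (Ne.symm hd) hd
    have hw1 : g * u * g⁻¹ ≠ 1 := by
      intro h1; apply hu
      calc u = g⁻¹ * (g * u * g⁻¹) * g := by group
        _ = 1 := by rw [h1]; group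
    have hww : g * u * g⁻¹ * (g * u * g⁻¹) = 1 := by
      calc g * u * g⁻¹ * (g * u * g⁻¹) = g * (u * u) * g⁻¹ := by group
        _ = 1 := by rw [huu]; group
    have hwd : (g * u * g⁻¹) • d = d := by
      rw [← hg, mul_smul, mul_smul, inv_smul_smul, hc]
    have hvd : v • d ≠ d := fun h1 => hd (fix_unique hS hv hvv h1 h)
    obtain ⟨g', hg'⟩ := main _ _ hw1 hww hv hvv d hwd hvd
    exact ⟨g' * g, by rw [← hg']; group⟩
  · exact main u v hu huu hv hvv c hc h

theorem s1120 (h2 : ∃ x y : G, x ≠ 1 ∧ y ≠ 1 ∧ x ≠ y ∧ x * x = 1 ∧ y * y = 1 ∧ x * y = y * x) :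
    Cfsg.pPrimeCore 2 G = (MulAction.stabilizer G a).normalCore := by
  have htr : ∀ c : Ω, ∃ g : G, g • a = c := by
    intro c
    by_cases h : a = c
    · exact ⟨1, by rw [one_smul, h]⟩
    · obtain ⟨g, hg, -⟩ := exists_map hS h (Ne.symm h)
      exact ⟨g, hg⟩
  apply le_antisymm
  · obtain ⟨x, y, hx, hy, hxy, hxx, hyy, hc⟩ := h2
    obtain ⟨c, hxc, -⟩ := inv_fix hS hx hxx
    have hyc : y • c = c := fix_of_comm hS hx hxx hxc hc.symm
    let A : Subgroup G :=
      { carrier := {g | g = 1 ∨ g = x ∨ g = y ∨ g = x * y}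
        one_mem' := Or.inl rfl
        mul_mem' := by
          have e1 : x * (x * y) = y := by rw [← mul_assoc, hxx, one_mul]
          have e2 : y * (x * y) = x := by rw [hc, ← mul_assoc, hyy, one_mul]
          have e3 : x * y * x = y := by rw [hc, mul_assoc, hxx, mul_one]
          have e4 : x * y * y = x := by rw [mul_assoc, hyy, mul_one]
          have e5 : x * y * (x * y) = 1 := by rw [← mul_assoc, e3, hyy]
          rintro u v (rfl | rfl | rfl | rfl) (rfl | rfl | rfl | rfl)
          all_goals simp only [Set.mem_setOf_eq, one_mul, mul_one, hxx, hyy, e1, e2, e3, e4, e5, true_or, or_true, ← hc]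
        inv_mem' := by
          have e5 : x * y * (x * y) = 1 := by
            calc x * y * (x * y) = x * (y * x) * y := by group
              _ = (x * x) * (y * y) := by rw [← hc]; group
              _ = 1 := by rw [hxx, hyy, one_mul]
          rintro u (rfl | rfl | rfl | rfl)
          · left; exact inv_one
          · right; left; exact inv_eq_of_mul_eq_one_left hxx
          · right; right; left; exact inv_eq_of_mul_eq_one_left hyy
          · right; right; right; exact inv_eq_of_mul_eq_one_left e5 }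
    have hAsq : ∀ u ∈ A, u * u = 1 := by
      rintro u (rfl | rfl | rfl | rfl)
      · exact one_mul 1
      · exact hxx
      · exact hyy
      · calc x * y * (x * y) = x * (y * x) * y := by group
          _ = (x * x) * (y * y) := by rw [← hc]; group
          _ = 1 := by rw [hxx, hyy, one_mul]
    have hAc : ∀ u ∈ A, ∀ v ∈ A, u * v = v * u := by
      intro u hu v hv
      have h1 := hAsq _ (A.mul_mem hu hv)
      have h3 : (u * v)⁻¹ = u * v := inv_eq_of_mul_eq_one_left h1
      rw [mul_inv_rev, inv_eq_of_mul_eq_one_left (hAsq u hu), inv_eq_of_mul_eq_one_left (hAsq v hv)] at h3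
      exact h3.symm
    have hAfix : ∀ u ∈ A, u • c = c := by
      rintro u (rfl | rfl | rfl | rfl)
      · exact one_smul _ _
      · exact hxc
      · exact hyc
      · rw [mul_smul, hyc, hxc]
    haveI : IsMulCommutative A := ⟨⟨fun u v => Subtype.ext (hAc u u.2 v v.2)⟩⟩
    have hAcyc : ¬ IsCyclic A := by
      intro hcy
      obtain ⟨g, hg⟩ := hcy.exists_generator
      have h1 : ∀ v : A, v = 1 ∨ v = g := by
        intro v
        obtain ⟨k, rfl⟩ := Subgroup.mem_zpowers_iff.mp (hg v)
        have hg2 : g ^ (2 : ℤ) = 1 := by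
          have : g * g = 1 := Subtype.ext (hAsq g g.2)
          rw [zpow_two]; exact this
        rcases Int.even_or_odd' k with ⟨m, rfl | rfl⟩
        · left; rw [zpow_mul, hg2, one_zpow]
        · right; rw [zpow_add, zpow_mul, hg2, one_zpow, one_mul, zpow_one]
      have hxA : x ∈ A := Or.inr (Or.inl rfl)
      have hyA : y ∈ A := Or.inr (Or.inr (Or.inl rfl))
      rcases h1 ⟨x, hxA⟩ with h3 | h3
      · exact hx (congrArg Subtype.val h3)
      · rcases h1 ⟨y, hyA⟩ with h4 | h4
        · exact hy (congrArg Subtype.val h4)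
        · exact hxy (congrArg Subtype.val (h3.trans h4.symm))
    have hA2 : IsPGroup 2 A := by
      intro u
      refine ⟨1, ?_⟩
      rw [pow_one, pow_two]
      exact Subtype.ext (hAsq u u.2)
    have hcop : (Nat.card A).Coprime (Nat.card (pPrimeCore 2 G)) := by
      obtain ⟨n, hn⟩ := IsPGroup.iff_card.mp hA2
      rw [hn]
      exact Nat.Coprime.pow_left n (pPrimeCore_coprime 2 G).symm
    have hN : (pPrimeCore 2 G).Normal := inferInstance
    have hgen := Cfsg.Agent.S0058.result A (pPrimeCore 2 G) hAcyc (by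
      rw [Subgroup.normalizer_eq_top]; exact le_top) hcop
    have hle : pPrimeCore 2 G ≤ MulAction.stabilizer G c := by
      rw [← hgen]
      refine iSup₂_le fun u hu => ?_
      rintro g ⟨-, hg⟩
      have hgu := Subgroup.mem_centralizer_singleton_iff.mp hg
      exact fix_of_comm hS hu.2 (hAsq u hu.1) (hAfix u hu.1) hgu
    rw [Subgroup.normal_le_normalCore]
    intro g hg
    obtain ⟨k, hk⟩ := htr c
    have h1 := hle (hN.conj_mem g hg k)
    have h3 : (k * g * k⁻¹) • c = c := h1
    rw [MulAction.mem_stabilizer_iff]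
    rw [← hk, mul_smul, mul_smul, inv_smul_smul] at h3
    exact smul_left_cancel k h3
  · have hle : (MulAction.stabilizer G a).normalCore ≤ DD G a t := by
      intro g hg
      refine Subgroup.mem_inf.mpr ⟨Subgroup.normalCore_le _ hg, ?_⟩
      have h1 := Subgroup.normalCore_le _ ((inferInstance : (MulAction.stabilizer G a).normalCore.Normal).conj_mem g hg t⁻¹)
      have h3 : (t⁻¹ * g * t⁻¹⁻¹) • a = a := h1
      rw [inv_inv] at h3
      rw [MulAction.mem_stabilizer_iff]
      have h4 : t • ((t⁻¹ * g * t) • a) = t • a := by rw [h3]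
      rw [← mul_smul] at h4
      rw [← mul_smul]
      convert h4 using 2
      group
    apply le_pPrimeCore
    rw [Nat.coprime_comm, Nat.Prime.coprime_iff_not_dvd Nat.prime_two]
    intro h
    have h1 := h.trans (Subgroup.card_dvd_of_le hle)
    exact (Nat.not_even_iff_odd.mpr hS.odd_card) (even_iff_two_dvd.mpr h1)

end Setup

end Cfsg.Agent.L0.R1
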